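import Cfsg.Agent.Schur.S62.Base

set_option autoImplicit false
set_option maxRecDepth 100000

namespace Cfsg.Agent.Schur.S62
open Cfsg.Agent.Comp Cfsg.Agent.Schur

namespace P2

noncomputable def x0 : Net :=
(Net.cons (nat_lit 0x40000000) (nat_lit 32)
(Net.cons (nat_lit 0x46100000f334) (nat_lit 16)
(Net.cons (nat_lit 0x2a008c000400ca) (nat_lit 8)
(Net.cons (nat_lit 0xc0c0204040e02) (nat_lit 4)
(Net.cons (nat_lit 0x1200020200202002) (nat_lit 2)
(Net.cons (nat_lit 0x1141111110414154) (nat_lit 1)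
(Net.cons (nat_lit 0x1132322112220000) (nat_lit 2)
(Net.cons (nat_lit 0x700000e07060404) (nat_lit 4)
(Net.cons (nat_lit 0x63001f00e500fa) (nat_lit 8)
(Net.cons (nat_lit 0x66fd0000ec16) (nat_lit 16)
(Net.cons (nat_lit 0x40000) (nat_lit 32)
Net.nil)))))))))))

noncomputable def x1 : Net :=
(Net.cons (nat_lit 0x36d306a2) (nat_lit 32)
(Net.cons (nat_lit 0x7c1d00002408) (nat_lit 16)
(Net.cons (nat_lit 0x1700dc0030009a) (nat_lit 8)
(Net.cons (nat_lit 0x3060a080802000a) (nat_lit 4)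
(Net.cons (nat_lit 0x200020202) (nat_lit 2)
(Net.cons (nat_lit 0x1441544115011144) (nat_lit 1)
(Net.cons (nat_lit 0x123122220323330) (nat_lit 2)
(Net.cons (nat_lit 0x90b080b060b06) (nat_lit 4)
(Net.cons (nat_lit 0x7b007500060082) (nat_lit 8)
(Net.cons (nat_lit 0x26290000d0a4) (nat_lit 16)
(Net.cons (nat_lit 0x5e18b0c6) (nat_lit 32)
Net.nil)))))))))))

noncomputable def x2 : Net :=
(Net.cons (nat_lit 0xc) (nat_lit 32)
(Net.cons (nat_lit 0xa00000084c4) (nat_lit 16)
(Net.cons (nat_lit 0x7d008000f80084) (nat_lit 8)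
(Net.cons (nat_lit 0x20e0c0c0c000000) (nat_lit 4)
(Net.cons (nat_lit 0x220002002000) (nat_lit 2)
(Net.cons (nat_lit 0x5144051011000) (nat_lit 1)
(Net.cons (nat_lit 0x1313110100322100) (nat_lit 2)
(Net.cons (nat_lit 0x20e030c0c0a0008) (nat_lit 4)
(Net.cons (nat_lit 0x7d0080007b00e4) (nat_lit 8)
(Net.cons (nat_lit 0xa00000084c4) (nat_lit 16)
(Net.cons (nat_lit 0xc) (nat_lit 32)
Net.nil)))))))))))

noncomputable def x3 : Net :=
(Net.cons (nat_lit 0x740000008300) (nat_lit 16)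
(Net.cons (nat_lit 0x40000000fc0000) (nat_lit 8)
(Net.cons (nat_lit 0x402060000000000) (nat_lit 4)
(Net.cons (nat_lit 0x20000000000) (nat_lit 2)
(Net.cons (nat_lit 0x540040050000100) (nat_lit 1)
(Net.cons (nat_lit 0x303120001321000) (nat_lit 2)
(Net.cons (nat_lit 0x4020600000a0000) (nat_lit 4)
(Net.cons (nat_lit 0x50000000fc0000) (nat_lit 8)
(Net.cons (nat_lit 0x740000008300) (nat_lit 16)
Net.nil)))))))))

noncomputable def x4 : Net :=
(Net.cons (nat_lit 0x78256000) (nat_lit 32)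
(Net.cons (nat_lit 0x4ffd00008d08) (nat_lit 16)
(Net.cons (nat_lit 0x5400a400480000) (nat_lit 8)
(Net.cons (nat_lit 0x302000400020400) (nat_lit 4)
(Net.cons (nat_lit 0x2200000000) (nat_lit 2)
(Net.cons (nat_lit 0x510554114010404) (nat_lit 1)
(Net.cons (nat_lit 0x1001121100002020) (nat_lit 2)
(Net.cons (nat_lit 0x1080f0b01070400) (nat_lit 4)
(Net.cons (nat_lit 0x6600a400790000) (nat_lit 8)
(Net.cons (nat_lit 0x4ffd00008d08) (nat_lit 16)
(Net.cons (nat_lit 0x78256000) (nat_lit 32)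
Net.nil)))))))))))

noncomputable def x5 : Net :=
(Net.cons (nat_lit 0x2) (nat_lit 32)
(Net.cons (nat_lit 0x17500000d100) (nat_lit 16)
(Net.cons (nat_lit 0x2300f600d000a4) (nat_lit 8)
(Net.cons (nat_lit 0x500040000000002) (nat_lit 4)
(Net.cons (nat_lit 0x1000000200020000) (nat_lit 2)
(Net.cons (nat_lit 0x1145500400540004) (nat_lit 1)
(Net.cons (nat_lit 0x321013200322230) (nat_lit 2)
(Net.cons (nat_lit 0x20f050101060002) (nat_lit 4)
(Net.cons (nat_lit 0x1a00ae00d000a4) (nat_lit 8)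
(Net.cons (nat_lit 0x56610000d100) (nat_lit 16)
(Net.cons (nat_lit 0x2) (nat_lit 32)
Net.nil)))))))))))

noncomputable def x6 : Net :=
(Net.cons (nat_lit 0x82088) (nat_lit 32)
(Net.cons (nat_lit 0x70000000d004) (nat_lit 16)
(Net.cons (nat_lit 0x18003200480038) (nat_lit 8)
(Net.cons (nat_lit 0x704020608040404) (nat_lit 4)
(Net.cons (nat_lit 0x20202002202000) (nat_lit 2)
(Net.cons (nat_lit 0x1014104001144000) (nat_lit 1)
(Net.cons (nat_lit 0x320232112312130) (nat_lit 2)
(Net.cons (nat_lit 0x704020e08090c04) (nat_lit 4)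
(Net.cons (nat_lit 0x180032006a0038) (nat_lit 8)
(Net.cons (nat_lit 0x70020000d004) (nat_lit 16)
(Net.cons (nat_lit 0x82088) (nat_lit 32)
Net.nil)))))))))))

noncomputable def x7 : Net :=
(Net.cons (nat_lit 0x508) (nat_lit 32)
(Net.cons (nat_lit 0x152800006008) (nat_lit 16)
(Net.cons (nat_lit 0x6a000000e00000) (nat_lit 8)
(Net.cons (nat_lit 0x60c0c020000) (nat_lit 4)
(Net.cons (nat_lit 0x2000000202000) (nat_lit 2)
(Net.cons (nat_lit 0x414505000411004) (nat_lit 1)
(Net.cons (nat_lit 0x1013231303202120) (nat_lit 2)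
(Net.cons (nat_lit 0x20f0c060c0a0000) (nat_lit 4)
(Net.cons (nat_lit 0x6a00be00e00000) (nat_lit 8)
(Net.cons (nat_lit 0x152800006008) (nat_lit 16)
(Net.cons (nat_lit 0x508) (nat_lit 32)
Net.nil)))))))))))

noncomputable def x8 : Net :=
(Net.cons (nat_lit 0x124900) (nat_lit 32)
(Net.cons (nat_lit 0x7c5c0000f800) (nat_lit 16)
(Net.cons (nat_lit 0x5400e800420000) (nat_lit 8)
(Net.cons (nat_lit 0x208060e04020800) (nat_lit 4)
(Net.cons (nat_lit 0x1000200020020200) (nat_lit 2)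
(Net.cons (nat_lit 0x1155144110045100) (nat_lit 1)
(Net.cons (nat_lit 0x121000223320200) (nat_lit 2)
(Net.cons (nat_lit 0x507010904020800) (nat_lit 4)
(Net.cons (nat_lit 0x54001700420000) (nat_lit 8)
(Net.cons (nat_lit 0x7c5c0000f800) (nat_lit 16)
(Net.cons (nat_lit 0x124900) (nat_lit 32)
Net.nil)))))))))))

noncomputable def x9 : Net :=
(Net.cons (nat_lit 0x268c8742) (nat_lit 32)
(Net.cons (nat_lit 0x38f10000bf06) (nat_lit 16)
(Net.cons (nat_lit 0x4000a800200082) (nat_lit 8)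
(Net.cons (nat_lit 0x204080408080e0a) (nat_lit 4)
(Net.cons (nat_lit 0x1002000220020020) (nat_lit 2)
(Net.cons (nat_lit 0x1541504414044114) (nat_lit 1)
(Net.cons (nat_lit 0x1210120231331322) (nat_lit 2)
(Net.cons (nat_lit 0x10204090e0a0d02) (nat_lit 4)
(Net.cons (nat_lit 0x3600ce00b1004c) (nat_lit 8)
(Net.cons (nat_lit 0x4d2200003406) (nat_lit 16)
(Net.cons (nat_lit 0x45a3406a) (nat_lit 32)
Net.nil)))))))))))

noncomputable def x10 : Net :=
(Net.cons (nat_lit 0x1) (nat_lit 32)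
(Net.cons (nat_lit 0x54650000d742) (nat_lit 16)
(Net.cons (nat_lit 0x4d00e4006a00cc) (nat_lit 8)
(Net.cons (nat_lit 0x60002000a04000c) (nat_lit 4)
(Net.cons (nat_lit 0x1200000000000202) (nat_lit 2)
(Net.cons (nat_lit 0x1410144454100101) (nat_lit 1)
(Net.cons (nat_lit 0x11312230010212) (nat_lit 2)
(Net.cons (nat_lit 0xe09070b04070e) (nat_lit 4)
(Net.cons (nat_lit 0x1f0002006a00ee) (nat_lit 8)
(Net.cons (nat_lit 0x510f0000c6ca) (nat_lit 16)
(Net.cons (nat_lit 0x1) (nat_lit 32)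
Net.nil)))))))))))

noncomputable def x11 : Net :=
(Net.cons (nat_lit 0x3120903b) (nat_lit 32)
(Net.cons (nat_lit 0x304000066b0) (nat_lit 16)
(Net.cons (nat_lit 0x240010004c0094) (nat_lit 8)
(Net.cons (nat_lit 0x20802000c0c0002) (nat_lit 4)
(Net.cons (nat_lit 0x2202022200002) (nat_lit 2)
(Net.cons (nat_lit 0x144151541114411) (nat_lit 1)
(Net.cons (nat_lit 0x1021023120013103) (nat_lit 2)
(Net.cons (nat_lit 0x70e060005070102) (nat_lit 4)
(Net.cons (nat_lit 0x5006400c00038) (nat_lit 8)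
(Net.cons (nat_lit 0x4cf10000cfa4) (nat_lit 16)
(Net.cons (nat_lit 0x67716302) (nat_lit 32)
Net.nil)))))))))))

noncomputable def R0 : List Net := [x0, x1, x2, x3, x4, x5, x6, x7, x8, x9, x10, x11]

noncomputable def R : List Net := R0 ++ Cfsg.Agent.SchurG.S62.T

theorem ok : TOK 63 R := tok_append (TOK_of_ok (by decide +kernel)) Cfsg.Agent.SchurG.S62.ok

def D : List (List Nat × List Nat) :=
  [([0], [19, 18, 16, 12, 18, 19, 18, 17, 18, 17, 13]),
   ([1], [17, 18]),
   ([2], [18, 13]),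
   ([3], [13]),
   ([9], [19, 18, 16, 12, 18, 19, 18, 14, 18, 17, 14, 13, 12]),
   ([10], [16, 18, 19, 12, 18, 16]),
   ([11], [19, 18, 17, 18, 20, 18, 14, 18, 19, 16, 18, 14, 13])]

theorem defs : ∀ e ∈ D, ev (sig R) e.1 = ev (sig R) e.2 :=
  eq_of_eqsP ok (by norm_num) (show eqsP (nat_lit 63) (nat_lit 6) (nat_lit 0) (nat_lit 6) R D = true by decide +kernel)

def T : List (List (List Nat)) :=
  [[[4]],
   [[1, 5], [6]],
   [[2, 4], [2, 6], []],
   [[3, 4, 7], [3], [3], []],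
   [[4], [4, 8], [4], [4], []],
   [[5, 8], [5, 7], [5, 7], [5], [5], []],
   [[6, 7], [6], [6], [6], [6], [6, 8], []],
   [[7], [7, 8], [7], [7], [7], [7], [7], []],
   [[8], [8], [8], [8], [8], [8], [8], [8], []]]

def Y : List (Nat × List Nat × List Nat) :=
  [(9, [1, 2, 6], [6, 7]),
   (9, [3], [3, 4, 7]),
   (9, [4], [5, 7, 8]),
   (10, [0], [3, 5, 6]),
   (10, [2], [6]),
   (10, [3], [2, 3, 6]),
   (10, [4], [8]),
   (10, [5], [0, 3, 6]),
   (11, [6], [7])]

theorem eqs : ∀ e ∈ (pcEqs 2 9 T ++ stEqs Y), ev (sig R) e.1 = ev (sig R) e.2 :=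
  eq_of_eqsP ok (by norm_num) (show eqsP (nat_lit 63) (nat_lit 6) (nat_lit 0) (nat_lit 6) R (pcEqs 2 9 T ++ stEqs Y) = true by decide +kernel)

def D2 : List (List Nat × List Nat) :=
  [([4], [0, 0]),
   ([0, 1, 5], [1, 0]),
   ([6], [1, 1]),
   ([1, 5, 7], [5, 1]),
   ([1, 7, 8], [7, 1])]

theorem allIn : AllIn Cfsg.Agent.SchurG.S62.phi.range R :=
  AllIn.ext Cfsg.Agent.Schur.S62.allIn (o := 12) rfl (eqs_append defs (eqs_swap (D := D2) eqs (by decide +kernel))) (by decide +kernel)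

def lv : List (List (List Nat) × List Nat × Nat × Nat) :=
  [([[0]], [0], 1, 2),
   ([[1, 2, 5], [1]], [1, 0], 4, 4),
   ([[2, 3, 4, 6], [2], [3, 7, 8]], [1, 2, 0], 2, 8),
   ([[3, 8], [3]], [1, 0], 8, 4),
   ([[4, 7, 8]], [0], 31, 2)]

theorem low : 2 ^ 9 ≤ Nat.card (gen (sig R) 9) :=
  low_gen (l := 6) (lv := lv) ok (by norm_num) (by decide +kernel) (by decide +kernel)

def I0 : List Ins :=
  [Ins.cons (nat_lit 0x1) (nat_lit 1) (nat_lit 0x41) (nat_lit 0xb03),
   Ins.cons (nat_lit 0x2) (nat_lit 1) (nat_lit 0x82) (nat_lit 0x1703),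
   Ins.cons (nat_lit 0x4) (nat_lit 1) (nat_lit 0x84) (nat_lit 0x802),
   Ins.cons (nat_lit 0x6) (nat_lit 1) (nat_lit 0xc3) (nat_lit 0x240301f0301202),
   Ins.cons (nat_lit 0x7) (nat_lit 1) (nat_lit 0x186) (nat_lit 0x2d0302a0301b02),
   Ins.cons (nat_lit 0x8) (nat_lit 1) (nat_lit 0x41) (nat_lit 0x210101d02),
   Ins.cons (nat_lit 0x9) (nat_lit 1) (nat_lit 0x41) (nat_lit 0x290102502),
   Ins.cons (nat_lit 0x4) (nat_lit 1) (nat_lit 0x82) (nat_lit 0x190300802),
   Ins.cons (nat_lit 0x9) (nat_lit 1) (nat_lit 0x82) (nat_lit 0x2b0102602),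
   Ins.cons (nat_lit 0x3) (nat_lit 1) (nat_lit 0x43) (nat_lit 0xf0100d0100402),
   Ins.cons (nat_lit 0x7) (nat_lit 1) (nat_lit 0x47) (nat_lit 0x24010230101602),
   Ins.cons (nat_lit 0x3) (nat_lit 1) (nat_lit 0x83) (nat_lit 0x1c010180100502),
   Ins.cons (nat_lit 0x5) (nat_lit 1) (nat_lit 0x85) (nat_lit 0x2d010290100c02),
   Ins.cons (nat_lit 0x6) (nat_lit 1) (nat_lit 0x86) (nat_lit 0x24010220101102),
   Ins.cons (nat_lit 0x8) (nat_lit 1) (nat_lit 0x88) (nat_lit 0x2d0102c0101e02),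
   Ins.cons (nat_lit 0x6) (nat_lit 1) (nat_lit 0x41) (nat_lit 0x2d03025030140101002),
   Ins.cons (nat_lit 0x7) (nat_lit 1) (nat_lit 0x41) (nat_lit 0x240301d0301a0101602),
   Ins.cons (nat_lit 0x5) (nat_lit 1) (nat_lit 0x82) (nat_lit 0x2d030260301a0300c02),
   Ins.cons (nat_lit 0x8) (nat_lit 1) (nat_lit 0x82) (nat_lit 0x2d03026030230101e02),
   Ins.cons (nat_lit 0x4) (nat_lit 1) (nat_lit 0x44) (nat_lit 0x2401021010200100f0100e0100702),
   Ins.cons (nat_lit 0x5) (nat_lit 1) (nat_lit 0x84) (nat_lit 0x2801),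
   Ins.cons (nat_lit 0x6) (nat_lit 1) (nat_lit 0x84) (nat_lit 0x2001),
   Ins.cons (nat_lit 0x2) (nat_lit 1) (nat_lit 0x41) (nat_lit 0x2d0302a02015030100300c0300202),
   Ins.cons (nat_lit 0x6) (nat_lit 1) (nat_lit 0x82) (nat_lit 0x2d0302c020240301e0301b0301102),
   Ins.cons (nat_lit 0x8) (nat_lit 1) (nat_lit 0x42) (nat_lit 0x2a010250302201),
   Ins.cons (nat_lit 0x5) (nat_lit 1) (nat_lit 0x83) (nat_lit 0x2b010270101a03),
   Ins.cons (nat_lit 0x2) (nat_lit 1) (nat_lit 0x42) (nat_lit 0x2d0102c0202a010220101b0201603015010110100202),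
   Ins.cons (nat_lit 0x4) (nat_lit 1) (nat_lit 0x42) (nat_lit 0x2d0102c010220101e01014030130300c01),
   Ins.cons (nat_lit 0x3) (nat_lit 1) (nat_lit 0x42) (nat_lit 0x2d0102a0102403023030210301b0101a0101603014030120300c01),
   Ins.stab 9 [2, 2] [] (nat_lit 0x300202d0302c0302a0302403022030150300f01),
   Ins.stab 9 [1, 0] [0, 1] (nat_lit 0x2303021010200101a010090100801),
   Ins.stab 9 [2, 1] [1, 2] (nat_lit 0x2c030290302803022010210302003014030130300e01),
   Ins.stab 10 [4, 4] [] (nat_lit 0x320201c0300601),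
   Ins.stab 10 [6, 6] [] (nat_lit 0x340202d0300f01),
   Ins.stab 10 [5, 5] [] (nat_lit 0x330201c0301903018030090300603),
   Ins.stab 10 [3, 3] [6] (nat_lit 0x34010310202b0301c0301b0301903015030130300a0300101),
   Ins.stab 10 [7, 7] [] (nat_lit 0x3502024030230301c0301903016030150100f0300e0300a030070300103),
   Ins.stab 10 [4, 3] [3, 4, 6] (nat_lit 0x340102b0301b030190300401),
   Ins.stab 11 [8, 8] [] (nat_lit 0x36020240301c01)]

theorem ins0 : InsOK 9 0 54 T Y 3 I0 :=
  InsOK.of 10 (show lall (insOK (nat_lit 9) (nat_lit 0) (nat_lit 10) (nat_lit 54) T Y (nat_lit 3)) I0 = true by decide +kernel)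

def I : List Ins := I0

def K : List Nat :=
  [nat_lit 0x801]

def O : List Nat :=
  [nat_lit 0x303]

def U : List Nat :=
  [nat_lit 0x40300101,
   nat_lit 0x50300301,
   nat_lit 0x601,
   nat_lit 0xa01,
   nat_lit 0x402,
   nat_lit 0x202,
   nat_lit 0x502,
   nat_lit 0x70200402,
   nat_lit 0xc02]

def C : List (List Nat) :=
  [[nat_lit 0x0],
  [nat_lit 0x0,
   nat_lit 0x0],
  [nat_lit 0x0,
   nat_lit 0x0,
   nat_lit 0x0],
  [nat_lit 0x0,
   nat_lit 0x101,
   nat_lit 0x20010170101401013010070100101,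
   nat_lit 0x0],
  [nat_lit 0x201,
   nat_lit 0x0,
   nat_lit 0x230100e0100b0100801,
   nat_lit 0x28010240102301022010200101501014010130100e0100d01009010080100101,
   nat_lit 0x230100e0100801],
  [nat_lit 0x230101f01018010100100f0100e010080100601,
   nat_lit 0x28010270102601025010240102201021010200101f0101c0101a010160101401013010110100d0100c01008010060100101,
   nat_lit 0x2701026010250101e0101d0101901017010150101401013010100100f0100e0100c01009010080100601,
   nat_lit 0x2801024010230102201021010200101a010170101601015010140101301011010100100d010090100801007010060100101,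
   nat_lit 0x280102401022010200101a010170101401013010110100f0100d0100901007010060100101,
   nat_lit 0x230101f010100100f0100601],
  [nat_lit 0x27010260102501023010210101a010170101601011010100100c0100901008010070100601,
   nat_lit 0x301,
   nat_lit 0x24010220102001017010140101301009010070100101,
   nat_lit 0x901,
   nat_lit 0x28010240102201020010170100d0100c01009010070100101,
   nat_lit 0x23010210101d0101901016010150100e01,
   nat_lit 0x2401022010200101701014010130100d01009010070100101],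
  [nat_lit 0x1401013010120100c01,
   nat_lit 0x2801024010230102201021010200101d01017010160101501014010130100d0100901008010070100101,
   nat_lit 0x280102401022010200101701014010130100d0100901007010050100101,
   nat_lit 0x1701,
   nat_lit 0x701,
   nat_lit 0x280102401022010200101701014010130100f0100d01009010070100101,
   nat_lit 0x280102401022010200101701014010130100d0100c01009010070100101,
   nat_lit 0x280102401022010200101701014010130100d01009010070100101],
  [nat_lit 0x280102401022010200101a0101701014010130100f0100e0100d010090100801007010060100101,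
   nat_lit 0x2801024010220102001017010130100e0100d0100c0100901008010070100101,
   nat_lit 0x280102401022010200101b010170100d0100c0100a01009010070100101,
   nat_lit 0x1601,
   nat_lit 0x801,
   nat_lit 0xe010080100601,
   nat_lit 0xa01,
   nat_lit 0x100100e0100801,
   nat_lit 0xe0100801]]

theorem ord : ordsOK 2 (Nat.succ 3) 5 54 (insL I) K [1] O = true :=
  show ordsOK (nat_lit 2) (Nat.succ (nat_lit 3)) (nat_lit 5) (nat_lit 54) (insL I) K [1] O = true by decide +kernel

theorem tgt0 : TgtOK 2 54 T 2 3 (K ++ insL I) U C 0 9 :=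
  TgtOK.of 10 9 rfl (show tgtRows (nat_lit 2) (nat_lit 10) (nat_lit 54) T (nat_lit 2) (nat_lit 3) (K ++ insL I) U C (nat_lit 0) (nat_lit 9) = true by decide +kernel)

theorem gen : PGen Cfsg.Agent.SchurG.S62.G 2 [1] :=
  haveI := Cfsg.Agent.Schur.S62.card.1
  pgen_net Cfsg.Agent.SchurG.S62.card.2.2 allIn Cfsg.Agent.Schur.S62.card.2 (by norm_num) rfl eqs low (by norm_num) (by decide +kernel) (E := 1) (I := I)
    (ins0) ord (a := 1) tgt0 (by decide +kernel)

end P2

end Cfsg.Agent.Schur.S62
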