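import Cfsg.Agent.Schur.S62.Base

set_option autoImplicit false
set_option maxRecDepth 100000

namespace Cfsg.Agent.Schur.S62
open Cfsg.Agent.Comp Cfsg.Agent.Schur

namespace P3

noncomputable def x0 : Net :=
(Net.cons (nat_lit 0x4d023811) (nat_lit 32)
(Net.cons (nat_lit 0x45b00000c826) (nat_lit 16)
(Net.cons (nat_lit 0x7800c8000e0034) (nat_lit 8)
(Net.cons (nat_lit 0x206040808040402) (nat_lit 4)
(Net.cons (nat_lit 0x1022202020020000) (nat_lit 2)
(Net.cons (nat_lit 0x1541454545411040) (nat_lit 1)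
(Net.cons (nat_lit 0x120123120101012) (nat_lit 2)
(Net.cons (nat_lit 0x70c040805060a0d) (nat_lit 4)
(Net.cons (nat_lit 0x400c100af0097) (nat_lit 8)
(Net.cons (nat_lit 0x7ee8000019bc) (nat_lit 16)
(Net.cons (nat_lit 0x635ad502) (nat_lit 32)
Net.nil)))))))))))

noncomputable def x1 : Net :=
(Net.cons (nat_lit 0xed9bb70) (nat_lit 32)
(Net.cons (nat_lit 0x382e0000f650) (nat_lit 16)
(Net.cons (nat_lit 0x4400aa00040040) (nat_lit 8)
(Net.cons (nat_lit 0x200000a0a080a08) (nat_lit 4)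
(Net.cons (nat_lit 0x1200002220020222) (nat_lit 2)
(Net.cons (nat_lit 0x1150054410540141) (nat_lit 1)
(Net.cons (nat_lit 0x200032122030122) (nat_lit 2)
(Net.cons (nat_lit 0x104040c0208000c) (nat_lit 4)
(Net.cons (nat_lit 0x4600a2003c00c3) (nat_lit 8)
(Net.cons (nat_lit 0x116e0000de50) (nat_lit 16)
(Net.cons (nat_lit 0xccb9630) (nat_lit 32)
Net.nil)))))))))))

noncomputable def x2 : Net :=
(Net.cons (nat_lit 0x71537b89) (nat_lit 32)
(Net.cons (nat_lit 0xd800004f00) (nat_lit 16)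
(Net.cons (nat_lit 0x41008c007000c0) (nat_lit 8)
(Net.cons (nat_lit 0x406080e080a0000) (nat_lit 4)
(Net.cons (nat_lit 0x1202020002000000) (nat_lit 2)
(Net.cons (nat_lit 0x1454514151014451) (nat_lit 1)
(Net.cons (nat_lit 0x20110102131320) (nat_lit 2)
(Net.cons (nat_lit 0x20f080000070006) (nat_lit 4)
(Net.cons (nat_lit 0x5f000e00a80063) (nat_lit 8)
(Net.cons (nat_lit 0x471600007fb4) (nat_lit 16)
(Net.cons (nat_lit 0x6785cfce) (nat_lit 32)
Net.nil)))))))))))

noncomputable def x3 : Net :=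
(Net.cons (nat_lit 0x68d8e04) (nat_lit 32)
(Net.cons (nat_lit 0x189400006490) (nat_lit 16)
(Net.cons (nat_lit 0x14009200d600bc) (nat_lit 8)
(Net.cons (nat_lit 0x60e00060408020a) (nat_lit 4)
(Net.cons (nat_lit 0x22020002200) (nat_lit 2)
(Net.cons (nat_lit 0x545141444001401) (nat_lit 1)
(Net.cons (nat_lit 0x221302303310230) (nat_lit 2)
(Net.cons (nat_lit 0x409070c0f020a07) (nat_lit 4)
(Net.cons (nat_lit 0x330020000400ac) (nat_lit 8)
(Net.cons (nat_lit 0x6bc3000050b5) (nat_lit 16)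
(Net.cons (nat_lit 0x7ceda928) (nat_lit 32)
Net.nil)))))))))))

noncomputable def x4 : Net :=
(Net.cons (nat_lit 0xcd6d2b5) (nat_lit 32)
(Net.cons (nat_lit 0x465000008062) (nat_lit 16)
(Net.cons (nat_lit 0x5e00620090003a) (nat_lit 8)
(Net.cons (nat_lit 0x8080c0a0c0400) (nat_lit 4)
(Net.cons (nat_lit 0x1202000000020220) (nat_lit 2)
(Net.cons (nat_lit 0x1411141404045145) (nat_lit 1)
(Net.cons (nat_lit 0x1001101330001331) (nat_lit 2)
(Net.cons (nat_lit 0x2080f000805030e) (nat_lit 4)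
(Net.cons (nat_lit 0x58000f00140027) (nat_lit 8)
(Net.cons (nat_lit 0x6d18000028e4) (nat_lit 16)
(Net.cons (nat_lit 0x22cad35e) (nat_lit 32)
Net.nil)))))))))))

noncomputable def R0 : List Net := [x0, x1, x2, x3, x4]

noncomputable def R : List Net := R0 ++ Cfsg.Agent.SchurG.S62.T

theorem ok : TOK 63 R := tok_append (TOK_of_ok (by decide +kernel)) Cfsg.Agent.SchurG.S62.ok

def D : List (List Nat × List Nat) :=
  [([0], [12, 7, 11, 13, 11, 7, 11, 12, 5, 11, 8, 7, 5]),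
   ([1], [9, 11, 13, 12, 11, 13, 7, 5, 11, 12, 9, 11, 9, 6]),
   ([4], [11, 13, 10, 11, 13, 11, 12, 9, 11, 12, 10, 5, 11, 8])]

theorem defs : ∀ e ∈ D, ev (sig R) e.1 = ev (sig R) e.2 :=
  eq_of_eqsP ok (by norm_num) (show eqsP (nat_lit 63) (nat_lit 6) (nat_lit 0) (nat_lit 6) R D = true by decide +kernel)

def T : List (List (List Nat)) :=
  [[[3, 3]],
   [[1, 2], []],
   [[2, 3], [2], []],
   [[3], [3], [3], []]]

def Y : List (Nat × List Nat × List Nat) :=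
  [(4, [1], [1]),
   (4, [2], [2, 2, 3])]

theorem eqs : ∀ e ∈ (pcEqs 3 4 T ++ stEqs Y), ev (sig R) e.1 = ev (sig R) e.2 :=
  eq_of_eqsP ok (by norm_num) (show eqsP (nat_lit 63) (nat_lit 6) (nat_lit 0) (nat_lit 6) R (pcEqs 3 4 T ++ stEqs Y) = true by decide +kernel)

def D2 : List (List Nat × List Nat) :=
  [([0, 1, 2], [1, 0]),
   ([0, 2, 3], [2, 0])]

theorem allIn : AllIn Cfsg.Agent.SchurG.S62.phi.range R :=
  AllIn.ext Cfsg.Agent.Schur.S62.allIn (o := 5) rfl (eqs_append defs (eqs_swap (D := D2) eqs (by decide +kernel))) (by decide +kernel)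

def lv : List (List (List Nat) × List Nat × Nat × Nat) :=
  [([[0], [3, 3]], [0, 0, 1, 1], 16, 9),
   ([[1, 2, 2]], [0, 0], 28, 3),
   ([[1]], [0, 0], 32, 3)]

theorem low : 3 ^ 4 ≤ Nat.card (gen (sig R) 4) :=
  low_gen (l := 6) (lv := lv) ok (by norm_num) (by decide +kernel) (by decide +kernel)

def I0 : List Ins :=
  [Ins.cons (nat_lit 0x1) (nat_lit 1) (nat_lit 0x1041) (nat_lit 0x701),
   Ins.cons (nat_lit 0x4) (nat_lit 1) (nat_lit 0x42) (nat_lit 0x901),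
   Ins.cons (nat_lit 0x82) (nat_lit 2) (nat_lit 0x42) (nat_lit 0x601),
   Ins.cons (nat_lit 0xc3) (nat_lit 2) (nat_lit 0x43) (nat_lit 0xa01),
   Ins.cons (nat_lit 0x3) (nat_lit 1) (nat_lit 0x42) (nat_lit 0x90100801),
   Ins.stab 4 [1, 0] [0, 1] (nat_lit 0x80200502)]

theorem ins0 : InsOK 4 1 12 T Y 2 I0 :=
  InsOK.of 9 (show lall (insOK (nat_lit 4) (nat_lit 1) (nat_lit 9) (nat_lit 12) T Y (nat_lit 2)) I0 = true by decide +kernel)

def I : List Ins := I0

def K : List Nat :=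
  []

def O : List Nat :=
  []

def U : List Nat :=
  [nat_lit 0x40700101,
   nat_lit 0x301,
   nat_lit 0x206,
   nat_lit 0x406]

def C : List (List Nat) :=
  [[nat_lit 0x0],
  [nat_lit 0x0,
   nat_lit 0x0],
  [nat_lit 0x0,
   nat_lit 0x6010050100202,
   nat_lit 0x302],
  [nat_lit 0x102,
   nat_lit 0x50200201,
   nat_lit 0x202,
   nat_lit 0x402]]

theorem ord : ordsOK 3 (Nat.succ 2) 3 12 (insL I) K [] O = true :=
  show ordsOK (nat_lit 3) (Nat.succ (nat_lit 2)) (nat_lit 3) (nat_lit 12) (insL I) K [] O = true by decide +kernel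

theorem tgt0 : TgtOK 3 12 T 3 8 (K ++ insL I) U C 0 4 :=
  TgtOK.of 9 4 rfl (show tgtRows (nat_lit 3) (nat_lit 9) (nat_lit 12) T (nat_lit 3) (nat_lit 8) (K ++ insL I) U C (nat_lit 0) (nat_lit 4) = true by decide +kernel)

theorem gen : PGen Cfsg.Agent.SchurG.S62.G 3 [] :=
  haveI := Cfsg.Agent.Schur.S62.card.1
  pgen_net Cfsg.Agent.SchurG.S62.card.2.2 allIn Cfsg.Agent.Schur.S62.card.2 (by norm_num) rfl eqs low (by norm_num) (by decide +kernel) (E := 0) (I := I)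
    (ins0) ord (a := 1) tgt0 (by decide +kernel)

end P3

end Cfsg.Agent.Schur.S62
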